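import Mathlib

set_option autoImplicit false

/-!
Fixed uniform partitions of permutations of prime order (owner: helper18).
-/

namespace CfsgLib.PermPartitions.Uniform

/-- The numbers of `r`-cycles of permutations fixing a partition into `b` parts of size `a`. -/
def Rep (a b r m : ℕ) : Prop :=
  ∃ t : ℕ, t * r ≤ b ∧ t * a ≤ m ∧ m ≤ t * a + (b - t * r) * (a / r)

theorem rep_all_iff {a b r : ℕ} (ha : 2 ≤ a) (hb : 2 ≤ b) (hr : r.Prime) (hrab : r ≤ a * b) :
    (∀ m, 1 ≤ m → m * r ≤ a * b → Rep a b r m) ↔
      (r ≤ a ∧ (a % r = 0 ∨ (b % r = 0 ∧ a % r = 1) ∨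
        (a % r ≠ 0 ∧ b % r ≠ 0 ∧ (b % r) * (a % r) < r ∧
          (b < r ∨ (b % r + r) * (a % r) ≤ (b % r) * a + r)))) := by
  obtain ⟨A, l, hl, rfl⟩ : ∃ A l, l < r ∧ a = r * A + l :=
    ⟨a / r, a % r, Nat.mod_lt _ hr.pos, (Nat.div_add_mod a r).symm⟩
  obtain ⟨B, k, hk, rfl⟩ : ∃ B k, k < r ∧ b = r * B + k :=
    ⟨b / r, b % r, Nat.mod_lt _ hr.pos, (Nat.div_add_mod b r).symm⟩
  have hAdiv : (r * A + l) / r = A := by
    rw [Nat.mul_add_div hr.pos, Nat.div_eq_of_lt hl, add_zero]
  have hAmod : (r * A + l) % r = l := by rw [Nat.mul_add_mod, Nat.mod_eq_of_lt hl]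
  have hBmod : (r * B + k) % r = k := by rw [Nat.mul_add_mod, Nat.mod_eq_of_lt hk]
  have hRA : r ≤ r * A + l ↔ 1 ≤ A := by
    constructor
    · intro h
      rcases Nat.eq_zero_or_pos A with rfl | h'
      · omega
      · exact h'
    · intro h
      have := Nat.mul_le_mul_left r h
      omega
  have hB0 : r * B + k < r ↔ B = 0 := by
    constructor
    · intro h
      rcases Nat.eq_zero_or_pos B with rfl | h'
      · rfl
      · have := Nat.mul_le_mul_left r h'
        omega
    · rintro rfl
      omega
  have hform : (k + r) * l ≤ k * (r * A + l) + r ↔ l ≤ k * A + 1 := by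
    have h1 : (k + r) * l = k * l + r * l := by ring
    have h2 : k * (r * A + l) + r = k * l + r * (k * A + 1) := by ring
    rw [h1, h2, Nat.add_le_add_iff_left]
    exact Nat.mul_le_mul_left_iff hr.pos
  -- the bound for a given number of moved parts
  have hval : ∀ t, t * r ≤ r * B + k →
      t * (r * A + l) + (r * B + k - t * r) * A = (r * B + k) * A + t * l := by
    intro t ht
    obtain ⟨d, hd⟩ := Nat.le.dest ht
    rw [← hd, Nat.add_sub_cancel_left]
    ring
  have htB : ∀ t, t * r ≤ r * B + k → t ≤ B := by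
    intro t ht
    by_contra hlt
    have := Nat.mul_le_mul_right r (Nat.succ_le_of_lt (not_le.1 hlt))
    rw [Nat.succ_eq_add_one, add_mul, one_mul, mul_comm] at this
    omega
  rw [hAmod, hBmod, hRA, hB0, hform]
  constructor
  · intro h
    have hA : 1 ≤ A := by
      by_contra hA
      have hA0 : A = 0 := by omega
      obtain ⟨t, -, ht, hm⟩ := h 1 le_rfl (by omega)
      rw [hAdiv] at hm
      subst hA0
      simp only [mul_zero, zero_add, add_zero] at *
      rcases Nat.eq_zero_or_pos t with rfl | h'
      · omega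
      · have := Nat.mul_le_mul_right l h'
        omega
    have hkl : k * l < r := by
      by_contra hkl
      obtain ⟨t, htb, -, hm⟩ := h ((r * B + k) * A + B * l + 1) (by omega) (by
        have : ((r * B + k) * A + B * l + 1) * r + k * l = (r * A + l) * (r * B + k) + r := by ring
        omega)
      rw [hAdiv, hval t htb] at hm
      have := Nat.mul_le_mul_right l (htB t htb)
      omega
    have hgap : B ≠ 0 → l ≤ k * A + 1 := by
      intro hB
      by_contra hgap
      obtain ⟨C, rfl⟩ := Nat.exists_eq_add_one_of_ne_zero hB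
      have h1 : (C + 1) * (r * A + l) = C * (r * A + l) + (r * A + l) := by ring
      obtain ⟨t, htb, ht, hm⟩ := h ((C + 1) * (r * A + l) - 1) (by omega) (by
        refine le_trans (Nat.mul_le_mul_right r (Nat.sub_le _ _)) ?_
        calc (C + 1) * (r * A + l) * r = (r * A + l) * (r * (C + 1)) := by ring
          _ ≤ _ := Nat.mul_le_mul_left _ (Nat.le_add_right _ _))
      have htC : t ≤ C := by
        by_contra hlt
        have := Nat.mul_le_mul_right (r * A + l) (Nat.succ_le_of_lt (not_le.1 hlt))
        rw [Nat.succ_eq_add_one] at this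
        omega
      rw [hAdiv, hval t htb] at hm
      have h2 := Nat.mul_le_mul_right l htC
      have h3 : (r * (C + 1) + k) * A + C * l = C * (r * A + l) + r * A + k * A := by ring
      omega
    refine ⟨hA, ?_⟩
    by_cases hl0 : l = 0
    · exact Or.inl hl0
    by_cases hk0 : k = 0
    · subst hk0
      refine Or.inr (Or.inl ⟨rfl, ?_⟩)
      have : B ≠ 0 := fun e => by subst e; omega
      have := hgap this
      omega
    · exact Or.inr (Or.inr ⟨hl0, hk0, hkl, or_iff_not_imp_left.2 hgap⟩)
  · rintro ⟨hA, hcond⟩ m hm1 hm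
    have hkl : k * l < r ∧ (B ≠ 0 → l ≤ k * A + 1) := by
      rcases hcond with h0 | ⟨h0, h1⟩ | ⟨-, -, h1, h2⟩
      · subst h0
        exact ⟨by rw [mul_zero]; exact hr.pos, fun _ => Nat.zero_le _⟩
      · subst h0 h1
        exact ⟨by rw [zero_mul]; exact hr.pos, fun _ => by omega⟩
      · exact ⟨h1, h2.resolve_left⟩
    have hmM : m ≤ (r * B + k) * A + B * l := by
      by_contra hlt
      have h1 := Nat.mul_le_mul_right r (Nat.succ_le_of_lt (not_le.1 hlt))
      rw [Nat.succ_eq_add_one] at h1
      have h2 : ((r * B + k) * A + B * l + 1) * r + k * l = (r * A + l) * (r * B + k) + r := by ring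
      omega
    by_cases hq : m / (r * A + l) < B
    · refine ⟨m / (r * A + l), ?_, Nat.div_mul_le_self _ _, ?_⟩
      · calc m / (r * A + l) * r ≤ B * r := Nat.mul_le_mul_right r hq.le
          _ ≤ _ := by rw [mul_comm]; exact Nat.le_add_right _ _
      · have h1 := Nat.lt_mul_div_succ m (show 0 < r * A + l by omega)
        have h2 := hkl.2 (lt_of_le_of_lt (Nat.zero_le _) hq).ne'
        rw [hAdiv]
        have h3 : r + k ≤ r * B + k - m / (r * A + l) * r := by
          have := Nat.mul_le_mul_right r (Nat.succ_le_of_lt hq)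
          rw [Nat.succ_eq_add_one, add_mul, one_mul, mul_comm B r] at this
          omega
        have h4 := Nat.mul_le_mul_right A h3
        have h5 : (r + k) * A = r * A + k * A := by ring
        have h6 : (r * A + l) * (m / (r * A + l) + 1) =
          m / (r * A + l) * (r * A + l) + (r * A + l) := by ring
        omega
    · have hBr : B * r ≤ r * B + k := by rw [mul_comm]; exact Nat.le_add_right _ _
      refine ⟨B, hBr, ?_, ?_⟩
      · exact le_trans (Nat.mul_le_mul_right _ (not_lt.1 hq)) (Nat.div_mul_le_self _ _)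
      · rw [hAdiv, hval B hBr]
        exact hmM

/-- A permutation with `c` cycles of length `r` and all other points fixed. -/
theorem exists_perm {n r c : ℕ} (hr : r.Prime) (hcn : c * r ≤ n) :
    ∃ π : Equiv.Perm (Fin n), π ^ r = 1 ∧ π.support.card = c * r := by
  classical
  obtain ⟨d, rfl⟩ := Nat.le.dest hcn
  let e : Fin c × Fin r ⊕ Fin d ≃ Fin (c * r + d) :=
    (Equiv.sumCongr finProdFinEquiv (Equiv.refl _)).trans finSumFinEquiv
  let τ : Equiv.Perm (Fin c × Fin r ⊕ Fin d) :=
    Equiv.sumCongr (Equiv.prodCongr (Equiv.refl _) (finRotate r)) (Equiv.refl _)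
  have hpow : ∀ (n : ℕ) (x : Fin c × Fin r ⊕ Fin d),
      (τ ^ n) x = Sum.map (fun p => (p.1, (finRotate r ^ n) p.2)) id x := by
    intro n
    induction n with
    | zero => rintro (⟨i, j⟩ | y) <;> simp
    | succ n ih =>
      intro x
      rw [pow_succ', Equiv.Perm.mul_apply, ih]
      rcases x with ⟨i, j⟩ | y <;> simp [τ, pow_succ']
  have hrot : finRotate r ^ r = 1 := by
    obtain ⟨s, rfl⟩ : ∃ s, r = s + 2 := ⟨r - 2, by have := hr.two_le; omega⟩
    have h := pow_orderOf_eq_one (finRotate (s + 2))
    rwa [(isCycle_finRotate (n := s)).orderOf, support_finRotate, Finset.card_univ, Fintype.card_fin] at h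
  refine ⟨e.permCongr τ, ?_, ?_⟩
  · rw [← Equiv.permCongrHom_coe e, ← map_pow]
    have : τ ^ r = 1 := Equiv.ext fun x => by
      rw [hpow, hrot]
      rcases x with ⟨i, j⟩ | y <;> simp
    rw [this, map_one]
  · have hfix : ∀ j : Fin r, finRotate r j ≠ j := by
      obtain ⟨s, rfl⟩ : ∃ s, r = s + 2 := ⟨r - 2, by have := hr.two_le; omega⟩
      intro j
      exact Equiv.Perm.mem_support.1 (support_finRotate (n := s) ▸ Finset.mem_univ j)
    have : (e.permCongr τ).support =
        (Finset.univ : Finset (Fin c × Fin r)).map (Function.Embedding.inl.trans e.toEmbedding) := by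
      ext y
      obtain ⟨x, rfl⟩ := e.surjective y
      rcases x with ⟨i, j⟩ | z
      · have h := hfix j
        simp [τ] at h ⊢
        exact h
      · simp [τ]
    rw [this, Finset.card_map, Finset.card_univ, Fintype.card_prod, Fintype.card_fin, Fintype.card_fin]

/-- Distributing a number under a common bound. -/
theorem exists_split {ι : Type*} [DecidableEq ι] (A : ℕ) (F : Finset ι) :
    ∀ i, i ≤ F.card * A → ∃ g : ι → ℕ, (∀ j, g j ≤ A) ∧ ∑ j ∈ F, g j = i := by
  induction F using Finset.induction with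
  | empty => exact fun i hi => ⟨fun _ => 0, fun _ => Nat.zero_le _, by simp at hi ⊢; omega⟩
  | @insert x F hx ih =>
    intro i hi
    rw [Finset.card_insert_of_notMem hx, add_mul, one_mul] at hi
    obtain ⟨g, hg, hsum⟩ := ih (i - min i A) (by omega)
    refine ⟨Function.update g x (min i A), fun j => ?_, ?_⟩
    · by_cases hj : j = x
      · subst hj; simp
      · simp [hj, hg]
    · rw [Finset.sum_insert hx, Function.update_self,
        Finset.sum_congr rfl (g := g) fun j hj => Function.update_of_ne (f := g) (fun e : j = x => hx (e ▸ hj)) _, hsum]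
      omega

theorem support_card_eq {α : Type*} [Fintype α] [DecidableEq α] {r : ℕ} [Fact r.Prime]
    {σ : Equiv.Perm α} (hσ : σ ^ r = 1) : σ.support.card = σ.cycleType.card * r := by
  rw [← Equiv.Perm.sum_cycleType, Equiv.Perm.cycleType_of_pow_prime_eq_one hσ]
  simp

variable {a b r : ℕ}

/-- A fixed partition gives a representation of the number of cycles. -/
theorem rep_of_fixed (hr : r.Prime) (ha : 0 < a) {α : Type*} [Fintype α] [DecidableEq α]
    {σ : Equiv.Perm α} (hσ : σ ^ r = 1) (f : α → Fin b)
    (hf : ∀ j : Fin b, Nat.card {x : α // f x = j} = a) (π : Equiv.Perm (Fin b))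
    (hπ : ∀ x, f (σ x) = π (f x)) : Rep a b r σ.cycleType.card := by
  classical
  have : Fact r.Prime := ⟨hr⟩
  have hpow : ∀ (n : ℕ) x, f ((σ ^ n) x) = (π ^ n) (f x) := by
    intro n
    induction n with
    | zero => intro x; simp
    | succ n ih => intro x; rw [pow_succ', pow_succ', Equiv.Perm.mul_apply, Equiv.Perm.mul_apply, hπ, ih]
  have hcard : ∀ j, (Finset.univ.filter fun x => f x = j).card = a := fun j => by
    rw [← hf j, Nat.card_eq_fintype_card, Fintype.card_subtype]
  have hπr : π ^ r = 1 := Equiv.ext fun j => by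
    obtain ⟨x, hx⟩ := Finset.card_pos.1 (hcard j ▸ ha)
    rw [Finset.mem_filter] at hx
    rw [← hx.2, ← hpow, hσ, Equiv.Perm.one_apply, Equiv.Perm.one_apply]
  set t := π.cycleType.card with ht
  have hT : π.support.card = t * r := support_card_eq hπr
  have htb : t * r ≤ b := by
    rw [← hT]
    exact (Finset.card_le_univ _).trans (le_of_eq (Fintype.card_fin b))
  set s : Fin b → ℕ := fun j => (σ.support.filter fun x => f x = j).card with hs
  have hsum : σ.support.card = ∑ j, s j :=
    Finset.card_eq_sum_card_fiberwise fun x _ => Finset.mem_univ _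
  have hmoved : ∀ j ∈ π.support, s j = a := fun j hj => by
    rw [← hcard j]
    refine congrArg Finset.card (Finset.ext fun x => ?_)
    simp only [Finset.mem_filter, Finset.mem_univ, true_and, Equiv.Perm.mem_support]
    refine ⟨fun h => h.2, fun h => ⟨fun e => ?_, h⟩⟩
    have h1 := hπ x
    rw [e, h] at h1
    exact Equiv.Perm.mem_support.1 hj h1.symm
  have hfixed : ∀ j ∈ π.supportᶜ, r ∣ s j ∧ s j ≤ r * (a / r) := fun j hj => by
    rw [Finset.mem_compl, Equiv.Perm.notMem_support] at hj
    have hinv : ∀ x, f (σ x) = j ↔ f x = j := fun x => by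
      rw [hπ, ← π.injective.eq_iff (a := f x), hj]
    set τ := σ.subtypePerm (p := fun x => f x = j) hinv with hτ
    have hτr : τ ^ r = 1 := Equiv.ext fun x => Subtype.ext (by
      rw [hτ, Equiv.Perm.subtypePerm_pow, Equiv.Perm.subtypePerm_apply, Equiv.Perm.one_apply]
      show (σ ^ r) (x : α) = x
      rw [hσ, Equiv.Perm.one_apply])
    have hs' : s j = τ.support.card := by
      rw [← Finset.card_map (Function.Embedding.subtype fun x => f x = j)]
      refine congrArg Finset.card (Finset.ext fun x => ?_)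
      simp [hτ, Subtype.ext_iff, and_comm]
    have h1 := support_card_eq hτr
    have h2 : s j ≤ a := hcard j ▸ Finset.card_le_card fun x hx => by
      simp only [Finset.mem_filter, Finset.mem_univ, true_and] at hx ⊢
      exact hx.2
    rw [hs', h1] at h2 ⊢
    refine ⟨dvd_mul_left _ _, ?_⟩
    rw [mul_comm]
    exact Nat.mul_le_mul_left r ((Nat.le_div_iff_mul_le hr.pos).2 h2)
  obtain ⟨i, hi⟩ : r ∣ ∑ j ∈ π.supportᶜ, s j := Finset.dvd_sum fun j hj => (hfixed j hj).1
  have hib : i ≤ (b - t * r) * (a / r) := by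
    refine Nat.le_of_mul_le_mul_left ?_ hr.pos
    rw [← hi]
    refine (Finset.sum_le_card_nsmul _ _ _ fun j hj => (hfixed j hj).2).trans (le_of_eq ?_)
    rw [Finset.card_compl, Fintype.card_fin, hT, smul_eq_mul]
    ring
  have hmain : σ.cycleType.card = t * a + i := by
    refine Nat.eq_of_mul_eq_mul_right hr.pos ?_
    rw [← support_card_eq hσ, hsum, ← Finset.sum_add_sum_compl π.support s,
      Finset.sum_congr rfl hmoved, Finset.sum_const, hT, hi, smul_eq_mul]
    ring
  exact ⟨t, htb, by omega, by omega⟩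

/-- A representation of the number of cycles gives a fixed partition. -/
theorem fixed_of_rep (hr : r.Prime) {σ : Equiv.Perm (Fin (a * b))} (hσ : σ ^ r = 1)
    (h : Rep a b r σ.cycleType.card) :
    ∃ f : Fin (a * b) → Fin b, (∀ j : Fin b, Nat.card {x : Fin (a * b) // f x = j} = a) ∧
      ∃ π : Equiv.Perm (Fin b), ∀ x : Fin (a * b), f (σ x) = π (f x) := by
  classical
  have : Fact r.Prime := ⟨hr⟩
  obtain ⟨t, htb, hlo, hhi⟩ := h
  obtain ⟨π, hπr, hπc⟩ := exists_perm hr htb
  obtain ⟨g, hg, hgsum⟩ := exists_split (a / r) π.supportᶜ (σ.cycleType.card - t * a) (by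
    rw [Finset.card_compl, Fintype.card_fin, hπc]; omega)
  have hex : ∀ j : Fin b, ∃ ρ : Equiv.Perm (Fin a), ρ ^ r = 1 ∧ ρ.support.card = g j * r := fun j =>
    exists_perm hr ((Nat.mul_le_mul_right r (hg j)).trans (Nat.div_mul_le_self a r))
  choose ρ₀ hρr hρc using hex
  let ρ : Fin b → Equiv.Perm (Fin a) := fun j => if π j = j then ρ₀ j else 1
  have hρπ : ∀ j, ρ (π j) = ρ j := fun j => by
    by_cases hj : π j = j
    · rw [hj]
    · simp only [ρ, if_neg hj]
      rw [if_neg fun e => hj (π.injective e)]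
  let τ : Equiv.Perm (Fin b × Fin a) := Equiv.prodShear π ρ
  have happ : ∀ j x, τ (j, x) = (π j, ρ j x) := fun j x => rfl
  have hτpow : ∀ (n : ℕ) j x, (τ ^ n) (j, x) = ((π ^ n) j, ((ρ j) ^ n) x) := by
    intro n
    induction n with
    | zero => intro j x; simp
    | succ n ih =>
      intro j x
      have hρn : ∀ n : ℕ, ρ ((π ^ n) j) = ρ j := by
        intro n
        induction n with
        | zero => simp
        | succ n ih' => rw [pow_succ', Equiv.Perm.mul_apply, hρπ, ih']
      rw [pow_succ', Equiv.Perm.mul_apply, ih, happ, hρn, pow_succ', pow_succ', Equiv.Perm.mul_apply,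
        Equiv.Perm.mul_apply]
  have hτr : τ ^ r = 1 := Equiv.ext fun ⟨j, x⟩ => by
    rw [hτpow, hπr]
    by_cases hj : π j = j
    · simp only [ρ, if_pos hj, hρr]; rfl
    · simp only [ρ, if_neg hj, one_pow]; rfl
  have hτc : τ.support.card = σ.cycleType.card * r := by
    rw [Finset.card_eq_sum_card_fiberwise (f := Prod.fst) (t := Finset.univ)
      fun x _ => Finset.mem_univ _, ← Finset.sum_add_sum_compl π.support]
    have h1 : ∀ j ∈ π.support, (τ.support.filter fun p => p.1 = j).card = a := fun j hj => by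
      have : (τ.support.filter fun p => p.1 = j) = Finset.univ.map ⟨fun x => (j, x), fun x y e => (Prod.ext_iff.1 e).2⟩ := by
        ext ⟨j', x⟩
        simp only [Finset.mem_filter, Equiv.Perm.mem_support, Finset.mem_map, Finset.mem_univ,
          Function.Embedding.coeFn_mk, Prod.mk.injEq, true_and]
        constructor
        · exact fun h => ⟨x, Prod.ext h.2.symm rfl⟩
        · rintro ⟨y, e⟩
          obtain ⟨rfl, rfl⟩ := Prod.ext_iff.1 e
          exact ⟨fun e' => Equiv.Perm.mem_support.1 hj (Prod.ext_iff.1 e').1, rfl⟩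
      rw [this, Finset.card_map, Finset.card_univ, Fintype.card_fin]
    have h2 : ∀ j ∈ π.supportᶜ, (τ.support.filter fun p => p.1 = j).card = g j * r := fun j hj => by
      rw [Finset.mem_compl, Equiv.Perm.notMem_support] at hj
      have : (τ.support.filter fun p => p.1 = j) = (ρ₀ j).support.map ⟨fun x => (j, x), fun x y e => (Prod.ext_iff.1 e).2⟩ := by
        ext ⟨j', x⟩
        simp only [Finset.mem_filter, Equiv.Perm.mem_support, Finset.mem_map,
          Function.Embedding.coeFn_mk, Prod.mk.injEq]
        constructor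
        · rintro ⟨h, rfl⟩
          refine ⟨x, fun e => h ?_, rfl⟩
          show (π j', ρ j' x) = (j', x)
          rw [hj]
          simp only [ρ, if_pos hj, e]
        · rintro ⟨y, hy, e0⟩
          obtain ⟨rfl, rfl⟩ := Prod.ext_iff.1 e0
          refine ⟨fun e => hy ?_, rfl⟩
          have e2 : ρ j y = y := (Prod.ext_iff.1 e).2
          simpa only [ρ, if_pos hj] using e2
      rw [this, Finset.card_map, hρc]
    rw [Finset.sum_congr rfl h1, Finset.sum_congr rfl h2, Finset.sum_const, hπc, smul_eq_mul,
      ← Finset.sum_mul, hgsum, show t * r * a = t * a * r by ring, ← add_mul]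
    congr 1
    omega
  let e : Fin b × Fin a ≃ Fin (a * b) := finProdFinEquiv.trans (finCongr (Nat.mul_comm b a))
  have hσ1 : (e.permCongr τ) ^ r = 1 := by
    rw [← Equiv.permCongrHom_coe e, ← map_pow, hτr, map_one]
  have hc : (e.permCongr τ).support.card = τ.support.card := by
    rw [← Finset.card_map e.toEmbedding]
    refine congrArg Finset.card (Finset.ext fun y => ?_)
    obtain ⟨x, rfl⟩ := e.surjective y
    simp
  have hconj : IsConj (e.permCongr τ) σ := by
    rw [Equiv.Perm.isConj_iff_cycleType_eq, Equiv.Perm.cycleType_of_pow_prime_eq_one hσ1,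
      Equiv.Perm.cycleType_of_pow_prime_eq_one hσ]
    congr 1
    refine Nat.eq_of_mul_eq_mul_right hr.pos ?_
    rw [← support_card_eq hσ1, hc, hτc]
  obtain ⟨c, hc'⟩ := isConj_iff.1 hconj
  refine ⟨fun x => (e.symm (c.symm x)).1, fun j => ?_, π, fun x => ?_⟩
  · have h1 : {x : Fin (a * b) // (e.symm (c.symm x)).1 = j} ≃ Fin a :=
      ((c.symm.trans e.symm).subtypeEquiv (q := fun p : Fin b × Fin a => p.1 = j) fun x => Iff.rfl).trans
        { toFun := fun p => p.1.2
          invFun := fun x => ⟨(j, x), rfl⟩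
          left_inv := fun ⟨⟨i, x⟩, h⟩ => by subst h; rfl
          right_inv := fun x => rfl }
    rw [Nat.card_congr h1, Nat.card_fin]
  · show (e.symm (c.symm (σ x))).1 = π (e.symm (c.symm x)).1
    rw [← hc', Equiv.Perm.mul_apply, Equiv.Perm.mul_apply, Equiv.symm_apply_apply,
      Equiv.permCongr_apply, Equiv.symm_apply_apply]
    rfl

end CfsgLib.PermPartitions.Uniform
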